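import Groth.Agent.RefCh.K938.LocComb
import Mathlib.LinearAlgebra.Matrix.NonsingularInverse
import Mathlib.Topology.Algebra.Order.Floor
import Mathlib.Analysis.SpecificLimits.Basic
import Mathlib.Analysis.Normed.Group.Continuity
import Mathlib.Analysis.Normed.Ring.Lemmas
import Mathlib.Analysis.Normed.Field.Lemmas
import Mathlib.GroupTheory.Finiteness
import Mathlib.Algebra.Group.Subgroup.Finsupp

/-!
# The algebra of the intersection form on a normal surface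

`AbsSurf`: the abstract properties of a resolution `Y → Z` of a normal surface (`P = Pic Y`, `C = Cl Z`, `χ` the Euler
characteristic on `Y`, `E j = O_Y(-C_j)` for the exceptional curves, `dg j` the degree on `C_j`, `Φ` the Euler
characteristic of reflexive rank one modules on `Z`).

* `AbsSurf.B`: the form of Mumford `B(ν, μ) = ν·μ - ∑ x_j(ν) dg_j(μ)`;
* `AbsSurf.tendsto`: `2 Φ(c^m) / m² → B(ν, ν)` for `c = hull ν`;
* `AbsSurf.denominators`, `AbsSurf.hodge`, `AbsSurf.exists_generators`.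
-/

set_option autoImplicit false

open Finset Filter Topology

namespace K424.AbsSurf

variable {P C : Type*} [CommGroup P] [CommGroup C]

/-- The intersection number defined by the Euler characteristic. -/
def dot (χ : P → ℤ) (a b : P) : ℤ := χ 1 - χ a - χ b + χ (a * b)

theorem dot_comm (χ : P → ℤ) (a b : P) : dot χ a b = dot χ b a := by
  unfold dot; rw [mul_comm b a]; ring

/-- The abstract data. -/
structure Data (P C : Type*) [CommGroup P] [CommGroup C] (r : ℕ) where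
  χ : P → ℤ
  dot_mul : ∀ a b c, dot χ (a * b) c = dot χ a c + dot χ b c
  E : Fin r → P
  dg : Fin r → P →* Multiplicative ℤ
  dot_E : ∀ j a, dot χ (E j) a = - Multiplicative.toAdd (dg j a)
  a : Fin r → ℕ
  apos : ∀ i, 0 < a i
  off : ∀ i j, i ≠ j → Multiplicative.toAdd (dg j (E i)) ≤ 0
  pos : ∀ j, 0 < Multiplicative.toAdd (dg j (∏ i, E i ^ a i))
  hull : P →* C
  hull_surj : Function.Surjective hull
  hull_E : ∀ j, hull (E j) = 1
  Φ : C → ℤ
  bound : ∀ B : ℕ, ∃ K : ℕ, ∀ ν, (∀ j, |Multiplicative.toAdd (dg j ν)| ≤ (B : ℤ)) → |Φ (hull ν) - χ ν| ≤ (K : ℤ)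

namespace Data

variable {r : ℕ} (S : Data P C r)

/-- The form on `P`. -/
abbrev ip (a b : P) : ℤ := dot S.χ a b

theorem ip_mul (a a' b : P) : S.ip (a * a') b = S.ip a b + S.ip a' b := S.dot_mul _ _ _

/-- The form as a homomorphism in the first variable. -/
def ipH (b : P) : P →* Multiplicative ℤ :=
  MonoidHom.mk' (fun a => Multiplicative.ofAdd (S.ip a b)) fun a a' => by
    rw [S.ip_mul, ofAdd_add]

theorem toAdd_ipH (a b : P) : Multiplicative.toAdd (S.ipH b a) = S.ip a b := rfl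

theorem ip_comm (a b : P) : S.ip a b = S.ip b a := dot_comm _ _ _

theorem ip_mul' (a b b' : P) : S.ip a (b * b') = S.ip a b + S.ip a b' := by
  rw [S.ip_comm, S.ip_mul, S.ip_comm b, S.ip_comm b']

theorem ip_zpow (a b : P) (n : ℤ) : S.ip (a ^ n) b = n * S.ip a b := by
  have h : S.ipH b (a ^ n) = S.ipH b a ^ n := map_zpow _ _ _
  have h2 := congrArg Multiplicative.toAdd h
  rwa [toAdd_zpow, toAdd_ipH, toAdd_ipH, smul_eq_mul] at h2

theorem ip_zpow' (a b : P) (n : ℤ) : S.ip a (b ^ n) = n * S.ip a b := by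
  rw [S.ip_comm, S.ip_zpow, S.ip_comm b]

theorem ip_prod {ι : Type*} (s : Finset ι) (f : ι → P) (b : P) : S.ip (∏ i ∈ s, f i) b = ∑ i ∈ s, S.ip (f i) b := by
  have h : S.ipH b (∏ i ∈ s, f i) = ∏ i ∈ s, S.ipH b (f i) := map_prod _ _ _
  have h2 := congrArg Multiplicative.toAdd h
  rwa [toAdd_prod] at h2

theorem ip_one (b : P) : S.ip 1 b = 0 := by
  have := S.ip_mul 1 1 b
  rw [one_mul] at this
  linarith

/-- The degree on the `j`-th curve. -/
def deg (j : Fin r) (x : P) : ℤ := Multiplicative.toAdd (S.dg j x)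

theorem ip_E (j : Fin r) (x : P) : S.ip (S.E j) x = - S.deg j x := S.dot_E j x

theorem deg_mul (j : Fin r) (x y : P) : S.deg j (x * y) = S.deg j x + S.deg j y := by simp [deg]

theorem deg_eq (j : Fin r) (x : P) : S.deg j x = - S.ip (S.E j) x := by rw [ip_E, neg_neg]

/-- The linear part of `2χ`. -/
def psi (a : P) : ℤ := 2 * S.χ a - 2 * S.χ 1 - S.ip a a

theorem psi_mul (a b : P) : S.psi (a * b) = S.psi a + S.psi b := by
  have h1 : S.ip (a * b) (a * b) = S.ip a a + S.ip b b + 2 * S.ip a b := by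
    rw [S.ip_mul, S.ip_mul', S.ip_mul', S.ip_comm b a]; ring
  have h2 : S.χ (a * b) = S.ip a b - S.χ 1 + S.χ a + S.χ b := by unfold ip dot; ring
  unfold psi
  rw [h1, h2]; ring

theorem two_chi (a : P) : 2 * S.χ a = 2 * S.χ 1 + S.psi a + S.ip a a := by unfold psi; ring

/-- The linear part as a homomorphism. -/
def psiH : P →* Multiplicative ℤ :=
  MonoidHom.mk' (fun a => Multiplicative.ofAdd (S.psi a)) fun a a' => by
    rw [S.psi_mul, ofAdd_add]

theorem psi_zpow (a : P) (n : ℤ) : S.psi (a ^ n) = n * S.psi a := by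
  have h : S.psiH (a ^ n) = S.psiH a ^ n := map_zpow _ _ _
  have h2 := congrArg Multiplicative.toAdd h
  rwa [toAdd_zpow, smul_eq_mul] at h2

theorem psi_prod {ι : Type*} (s : Finset ι) (f : ι → P) : S.psi (∏ i ∈ s, f i) = ∑ i ∈ s, S.psi (f i) := by
  have h : S.psiH (∏ i ∈ s, f i) = ∏ i ∈ s, S.psiH (f i) := map_prod _ _ _
  have h2 := congrArg Multiplicative.toAdd h
  rwa [toAdd_prod] at h2

/-! ### The intersection matrix -/

/-- The matrix of the degrees of the `E i`. -/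
def mat : Matrix (Fin r) (Fin r) ℤ := fun j i => S.deg j (S.E i)

theorem mat_symm (i j : Fin r) : S.mat i j = S.mat j i := by
  unfold mat
  rw [deg_eq, deg_eq, S.ip_comm]

/-- The determinant. -/
def D : ℤ := S.mat.det

theorem D_ne_zero : S.D ≠ 0 := by
  have h1 : (S.mat.map (fun x : ℤ => (x : ℚ))).det ≠ 0 := by
    refine K938.LocComb.det_ne_zero (a := fun i => (S.a i : ℚ)) (fun i j hij => ?_) (fun i => ?_) fun j => ?_
    · rw [Matrix.map_apply]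
      exact_mod_cast S.off i j hij
    · exact_mod_cast S.apos i
    · have h2 := S.pos j
      have h3 : Multiplicative.toAdd (S.dg j (∏ i, S.E i ^ S.a i)) = ∑ i, S.mat j i * (S.a i : ℤ) := by
        simp only [map_prod, map_pow, toAdd_prod, toAdd_pow, mat, deg, nsmul_eq_mul]
        exact Finset.sum_congr rfl fun i _ => mul_comm _ _
      rw [h3] at h2
      have h4 : (∑ i, (S.mat.map (fun x : ℤ => (x : ℚ))) j i * (S.a i : ℚ)) =
          ((∑ i, S.mat j i * (S.a i : ℤ) : ℤ) : ℚ) := by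
        push_cast
        rfl
      rw [h4]
      exact_mod_cast h2
  intro h
  apply h1
  have : (S.mat.map (fun x : ℤ => (x : ℚ))).det = ((S.mat.det : ℤ) : ℚ) := by
    rw [Int.cast_det]
  rw [this]
  have h5 : S.mat.det = 0 := h
  rw [h5]; norm_num

/-- `D` times the coefficients of the exceptional part of the pull-back. -/
def y (ν : P) (i : Fin r) : ℤ := - ∑ j, S.mat.adjugate i j * S.deg j ν

theorem y_mul (ν μ : P) (i : Fin r) : S.y (ν * μ) i = S.y ν i + S.y μ i := by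
  simp only [y, deg_mul, mul_add, Finset.sum_add_distrib]
  ring

theorem sum_mat_y (ν : P) (j : Fin r) : ∑ i, S.mat j i * S.y ν i = - (S.D * S.deg j ν) := by
  have h0 : S.mat.mulVec (S.mat.adjugate.mulVec (fun l => S.deg l ν)) = S.D • (fun l => S.deg l ν) := by
    rw [Matrix.mulVec_mulVec, Matrix.mul_adjugate, Matrix.smul_mulVec, Matrix.one_mulVec]; rfl
  have h : (S.mat.mulVec (S.mat.adjugate.mulVec (fun l => S.deg l ν))) j = S.D * S.deg j ν := congrFun h0 j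
  rw [← h, Matrix.mulVec, dotProduct, ← Finset.sum_neg_distrib]
  refine Finset.sum_congr rfl fun i _ => ?_
  rw [y, Matrix.mulVec, dotProduct]
  ring

/-- The coefficients of the exceptional part of the pull-back. -/
def x (ν : P) (i : Fin r) : ℚ := (S.y ν i : ℚ) / (S.D : ℚ)

theorem x_mul (ν μ : P) (i : Fin r) : S.x (ν * μ) i = S.x ν i + S.x μ i := by
  rw [x, y_mul, Int.cast_add, add_div]; rfl

theorem D_mul_x (ν : P) (i : Fin r) : (S.D : ℚ) * S.x ν i = S.y ν i := by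
  rw [x, mul_div_cancel₀]
  exact_mod_cast S.D_ne_zero

theorem sum_mat_x (ν : P) (j : Fin r) : ∑ i, (S.mat j i : ℚ) * S.x ν i = - (S.deg j ν : ℚ) := by
  have hD : (S.D : ℚ) ≠ 0 := by exact_mod_cast S.D_ne_zero
  have h := S.sum_mat_y ν j
  have h2 : (S.D : ℚ) * ∑ i, (S.mat j i : ℚ) * S.x ν i = (S.D : ℚ) * (- (S.deg j ν : ℚ)) := by
    rw [Finset.mul_sum]
    have h3 : ∀ i, (S.D : ℚ) * ((S.mat j i : ℚ) * S.x ν i) = ((S.mat j i * S.y ν i : ℤ) : ℚ) := fun i => by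
      push_cast
      rw [← S.D_mul_x ν i]; ring
    rw [Finset.sum_congr rfl fun i _ => h3 i, ← Int.cast_sum, h]
    push_cast; ring
  exact mul_left_cancel₀ hD h2

/-- Mumford's form. -/
def B (ν μ : P) : ℚ := (S.ip ν μ : ℚ) - ∑ j, S.x ν j * (S.deg j μ : ℚ)

theorem B_mul (ν ν' μ : P) : S.B (ν * ν') μ = S.B ν μ + S.B ν' μ := by
  simp only [B, x_mul, ip_mul, add_mul, Finset.sum_add_distrib, Int.cast_add]
  ring

theorem B_comm (ν μ : P) : S.B ν μ = S.B μ ν := by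
  have key : ∀ ν μ : P, ∑ j, S.x ν j * (S.deg j μ : ℚ) = - ∑ j, ∑ i, S.x ν j * (S.mat j i : ℚ) * S.x μ i := by
    intro ν μ
    rw [← Finset.sum_neg_distrib]
    refine Finset.sum_congr rfl fun j _ => ?_
    have h := S.sum_mat_x μ j
    have h2 : (S.deg j μ : ℚ) = - ∑ i, (S.mat j i : ℚ) * S.x μ i := by rw [h, neg_neg]
    rw [h2, mul_neg, Finset.mul_sum]
    congr 1
    exact Finset.sum_congr rfl fun i _ => by ring
  unfold B
  rw [S.ip_comm ν μ, key ν μ, key μ ν, Finset.sum_comm]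
  congr 2
  refine Finset.sum_congr rfl fun i _ => Finset.sum_congr rfl fun j _ => ?_
  rw [S.mat_symm j i]; ring

theorem B_mul' (ν μ μ' : P) : S.B ν (μ * μ') = S.B ν μ + S.B ν μ' := by
  rw [S.B_comm, S.B_mul, S.B_comm μ, S.B_comm μ']

theorem B_sq_mul (ν μ : P) : S.B (ν * μ) (ν * μ) = S.B ν ν + S.B μ μ + 2 * S.B ν μ := by
  rw [S.B_mul, S.B_mul', S.B_mul', S.B_comm μ ν]; ring

theorem exists_int (ν μ : P) : ∃ z : ℤ, (S.D : ℚ) * S.B ν μ = z := by
  refine ⟨S.D * S.ip ν μ - ∑ j, S.y ν j * S.deg j μ, ?_⟩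
  unfold B
  rw [mul_sub, Finset.mul_sum]
  push_cast
  congr 1
  refine Finset.sum_congr rfl fun j _ => ?_
  rw [← S.D_mul_x]; ring

/-! ### The approximating sequence -/

/-- The rounded multiples of the coefficients. -/
def fl (ν : P) (m : ℕ) (i : Fin r) : ℤ := ⌊(m : ℚ) * S.x ν i⌋

theorem fl_err (ν : P) (m : ℕ) (i : Fin r) : |(S.fl ν m i : ℚ) - (m : ℚ) * S.x ν i| ≤ 1 := by
  have h1 := Int.floor_le ((m : ℚ) * S.x ν i)
  have h2 := Int.lt_floor_add_one ((m : ℚ) * S.x ν i)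
  rw [abs_le]
  unfold fl
  constructor <;> linarith

/-- The approximation of `m`-th power of the pull-back. -/
def app (ν : P) (m : ℕ) : P := ν ^ (m : ℤ) * ∏ i, S.E i ^ S.fl ν m i

theorem hull_app (ν : P) (m : ℕ) : S.hull (S.app ν m) = S.hull ν ^ m := by
  rw [app, map_mul, map_prod, map_zpow, zpow_natCast]
  rw [Finset.prod_eq_one fun i _ => by rw [map_zpow, S.hull_E, one_zpow], mul_one]

theorem ip_app (ν : P) (m : ℕ) (b : P) : S.ip (S.app ν m) b = m * S.ip ν b + ∑ i, S.fl ν m i * S.ip (S.E i) b := by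
  rw [app, S.ip_mul, S.ip_zpow, S.ip_prod]
  congr 1
  exact Finset.sum_congr rfl fun i _ => S.ip_zpow _ _ _

theorem psi_app (ν : P) (m : ℕ) : S.psi (S.app ν m) = m * S.psi ν + ∑ i, S.fl ν m i * S.psi (S.E i) := by
  rw [app, S.psi_mul, S.psi_zpow, S.psi_prod]
  congr 1
  exact Finset.sum_congr rfl fun i _ => S.psi_zpow _ _

theorem deg_app (ν : P) (m : ℕ) (j : Fin r) : S.deg j (S.app ν m) = m * S.deg j ν + ∑ i, S.fl ν m i * S.mat j i := by
  rw [S.deg_eq, S.ip_comm, S.ip_app, S.deg_eq j ν, S.ip_comm (S.E j) ν, neg_add, ← Finset.sum_neg_distrib]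
  congr 1
  · ring
  · refine Finset.sum_congr rfl fun i _ => ?_
    rw [mat, S.deg_eq, S.ip_comm]; ring

theorem deg_app_le (ν : P) (m : ℕ) (j : Fin r) : |S.deg j (S.app ν m)| ≤ ((∑ j, ∑ i, (S.mat j i).natAbs : ℕ) : ℤ) := by
  have h1 : ((S.deg j (S.app ν m) : ℤ) : ℚ) = ∑ i, (S.mat j i : ℚ) * ((S.fl ν m i : ℚ) - (m : ℚ) * S.x ν i) := by
    rw [S.deg_app]
    push_cast
    have h2 : ∑ i, (S.mat j i : ℚ) * ((m : ℚ) * S.x ν i) = - ((m : ℚ) * (S.deg j ν : ℚ)) := by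
      have := S.sum_mat_x ν j
      rw [← mul_neg, ← this, Finset.mul_sum]
      exact Finset.sum_congr rfl fun i _ => by ring
    rw [Finset.sum_congr rfl fun i _ => mul_sub (S.mat j i : ℚ) (S.fl ν m i : ℚ) ((m : ℚ) * S.x ν i),
      Finset.sum_sub_distrib, h2, sub_neg_eq_add, add_comm]
    congr 1
    exact Finset.sum_congr rfl fun i _ => mul_comm _ _
  have h3 : |((S.deg j (S.app ν m) : ℤ) : ℚ)| ≤ ∑ i, |(S.mat j i : ℚ)| := by
    rw [h1]
    refine (Finset.abs_sum_le_sum_abs _ _).trans (Finset.sum_le_sum fun i _ => ?_)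
    rw [abs_mul]
    exact mul_le_of_le_one_right (abs_nonneg _) (S.fl_err ν m i)
  have h4 : |S.deg j (S.app ν m)| ≤ ∑ i, |S.mat j i| := by exact_mod_cast h3
  refine h4.trans ?_
  push_cast
  refine le_trans (le_of_eq ?_) (Finset.single_le_sum (f := fun j => ∑ i, |S.mat j i|)
    (fun j _ => Finset.sum_nonneg fun i _ => abs_nonneg _) (Finset.mem_univ j))
  rfl

/-- The limit. -/
theorem tendsto (ν : P) : Tendsto (fun m : ℕ => (2 : ℝ) * (S.Φ (S.hull ν ^ m) : ℝ) / ((m : ℝ) ^ 2)) atTop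
    (𝓝 ((S.B ν ν : ℚ) : ℝ)) := by
  obtain ⟨K, hK⟩ := S.bound (∑ j, ∑ i, (S.mat j i).natAbs)
  have hK' : ∀ m : ℕ, |(2 : ℝ) * (S.Φ (S.hull ν ^ m) : ℝ) - 2 * (S.χ (S.app ν m) : ℝ)| ≤ 2 * K := fun m => by
    have h1 := hK (S.app ν m) (S.deg_app_le ν m)
    rw [S.hull_app] at h1
    have h2 : |((S.Φ (S.hull ν ^ m) : ℤ) : ℝ) - ((S.χ (S.app ν m) : ℤ) : ℝ)| ≤ (K : ℝ) := by exact_mod_cast h1
    rw [← mul_sub, abs_mul, abs_two]
    linarith
  have hinv : Tendsto (fun m : ℕ => ((m : ℝ))⁻¹) atTop (𝓝 0) := tendsto_inv_atTop_nhds_zero_nat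
  -- the rounded coefficients
  have hfl : ∀ i, Tendsto (fun m : ℕ => (S.fl ν m i : ℝ) * (m : ℝ)⁻¹) atTop (𝓝 ((S.x ν i : ℚ) : ℝ)) := fun i => by
    rw [tendsto_iff_norm_sub_tendsto_zero]
    refine squeeze_zero' (Eventually.of_forall fun m => norm_nonneg _) ?_ hinv
    filter_upwards [eventually_gt_atTop 0] with m hm
    have hm' : (0 : ℝ) < m := by exact_mod_cast hm
    have h1 : |(S.fl ν m i : ℝ) - (m : ℝ) * ((S.x ν i : ℚ) : ℝ)| ≤ 1 := by exact_mod_cast S.fl_err ν m i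
    rw [Real.norm_eq_abs]
    have h2 : (S.fl ν m i : ℝ) * (m : ℝ)⁻¹ - ((S.x ν i : ℚ) : ℝ) =
        ((S.fl ν m i : ℝ) - (m : ℝ) * ((S.x ν i : ℚ) : ℝ)) * (m : ℝ)⁻¹ := by
      field_simp
    rw [h2, abs_mul, abs_of_pos (inv_pos.mpr hm')]
    exact mul_le_of_le_one_left (inv_pos.mpr hm').le h1
  have key : Tendsto (fun m : ℕ => (2 : ℝ) * (S.χ (S.app ν m) : ℝ) / ((m : ℝ) ^ 2)) atTop (𝓝 ((S.B ν ν : ℚ) : ℝ)) := by
    have e1 : ∀ m : ℕ, 0 < m → (2 : ℝ) * (S.χ (S.app ν m) : ℝ) / ((m : ℝ) ^ 2) =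
        2 * (S.χ 1 : ℝ) * ((m : ℝ)⁻¹ * (m : ℝ)⁻¹) +
        ((S.psi ν : ℝ) + ∑ i, (S.fl ν m i : ℝ) * (m : ℝ)⁻¹ * (S.psi (S.E i) : ℝ)) * (m : ℝ)⁻¹ +
        ((S.ip ν ν : ℝ) + 2 * ∑ i, (S.fl ν m i : ℝ) * (m : ℝ)⁻¹ * (S.ip (S.E i) ν : ℝ) +
          ∑ i, (S.fl ν m i : ℝ) * (m : ℝ)⁻¹ * ∑ j, (S.fl ν m j : ℝ) * (m : ℝ)⁻¹ * (S.ip (S.E j) (S.E i) : ℝ)) := by
      intro m hm
      have hm' : (m : ℝ) ≠ 0 := by exact_mod_cast hm.ne'
      have h1 : (2 : ℝ) * (S.χ (S.app ν m) : ℝ) = 2 * (S.χ 1 : ℝ) + (S.psi (S.app ν m) : ℝ) +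
          (S.ip (S.app ν m) (S.app ν m) : ℝ) := by exact_mod_cast S.two_chi (S.app ν m)
      have h2 : (S.ip (S.app ν m) (S.app ν m) : ℝ) = (m : ℝ) ^ 2 * (S.ip ν ν : ℝ) +
          2 * (m : ℝ) * ∑ i, (S.fl ν m i : ℝ) * (S.ip (S.E i) ν : ℝ) +
          ∑ i, (S.fl ν m i : ℝ) * ∑ j, (S.fl ν m j : ℝ) * (S.ip (S.E j) (S.E i) : ℝ) := by
        have h3 : S.ip (S.app ν m) (S.app ν m) = (m : ℤ) ^ 2 * S.ip ν ν +
            2 * (m : ℤ) * ∑ i, S.fl ν m i * S.ip (S.E i) ν +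
            ∑ i, S.fl ν m i * ∑ j, S.fl ν m j * S.ip (S.E j) (S.E i) := by
          rw [S.ip_app, S.ip_comm ν, S.ip_app]
          have h4 : ∀ i, S.ip (S.E i) (S.app ν m) = m * S.ip (S.E i) ν + ∑ j, S.fl ν m j * S.ip (S.E j) (S.E i) := by
            intro i
            rw [S.ip_comm, S.ip_app, S.ip_comm ν]
          have h5 : ∑ i, S.fl ν m i * S.ip (S.E i) (S.app ν m) = (m : ℤ) * ∑ i, S.fl ν m i * S.ip (S.E i) ν +
              ∑ i, S.fl ν m i * ∑ j, S.fl ν m j * S.ip (S.E j) (S.E i) := by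
            rw [Finset.mul_sum, ← Finset.sum_add_distrib]
            exact Finset.sum_congr rfl fun i _ => by rw [h4 i]; ring
          rw [h5]; ring
        rw [h3]; push_cast; ring
      rw [h1, h2, S.psi_app]
      push_cast
      have h6 : ∑ i, (S.fl ν m i : ℝ) * (m : ℝ)⁻¹ * (S.psi (S.E i) : ℝ) =
          (m : ℝ)⁻¹ * ∑ i, (S.fl ν m i : ℝ) * (S.psi (S.E i) : ℝ) := by
        rw [Finset.mul_sum]; exact Finset.sum_congr rfl fun i _ => by ring
      have h7 : ∑ i, (S.fl ν m i : ℝ) * (m : ℝ)⁻¹ * (S.ip (S.E i) ν : ℝ) =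
          (m : ℝ)⁻¹ * ∑ i, (S.fl ν m i : ℝ) * (S.ip (S.E i) ν : ℝ) := by
        rw [Finset.mul_sum]; exact Finset.sum_congr rfl fun i _ => by ring
      have h8 : ∑ i, (S.fl ν m i : ℝ) * (m : ℝ)⁻¹ * ∑ j, (S.fl ν m j : ℝ) * (m : ℝ)⁻¹ * (S.ip (S.E j) (S.E i) : ℝ) =
          (m : ℝ)⁻¹ * (m : ℝ)⁻¹ * ∑ i, (S.fl ν m i : ℝ) * ∑ j, (S.fl ν m j : ℝ) * (S.ip (S.E j) (S.E i) : ℝ) := by
        rw [Finset.mul_sum]
        refine Finset.sum_congr rfl fun i _ => ?_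
        have h9 : ∑ j, (S.fl ν m j : ℝ) * (m : ℝ)⁻¹ * (S.ip (S.E j) (S.E i) : ℝ) =
            (m : ℝ)⁻¹ * ∑ j, (S.fl ν m j : ℝ) * (S.ip (S.E j) (S.E i) : ℝ) := by
          rw [Finset.mul_sum]; exact Finset.sum_congr rfl fun j _ => by ring
        rw [h9]; ring
      rw [h6, h7, h8]
      field_simp
    have e2 : Tendsto (fun m : ℕ => 2 * (S.χ 1 : ℝ) * ((m : ℝ)⁻¹ * (m : ℝ)⁻¹) +
        ((S.psi ν : ℝ) + ∑ i, (S.fl ν m i : ℝ) * (m : ℝ)⁻¹ * (S.psi (S.E i) : ℝ)) * (m : ℝ)⁻¹ +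
        ((S.ip ν ν : ℝ) + 2 * ∑ i, (S.fl ν m i : ℝ) * (m : ℝ)⁻¹ * (S.ip (S.E i) ν : ℝ) +
          ∑ i, (S.fl ν m i : ℝ) * (m : ℝ)⁻¹ * ∑ j, (S.fl ν m j : ℝ) * (m : ℝ)⁻¹ * (S.ip (S.E j) (S.E i) : ℝ))) atTop
        (𝓝 (2 * (S.χ 1 : ℝ) * (0 * 0) + ((S.psi ν : ℝ) + ∑ i, ((S.x ν i : ℚ) : ℝ) * (S.psi (S.E i) : ℝ)) * 0 +
        ((S.ip ν ν : ℝ) + 2 * ∑ i, ((S.x ν i : ℚ) : ℝ) * (S.ip (S.E i) ν : ℝ) +
          ∑ i, ((S.x ν i : ℚ) : ℝ) * ∑ j, ((S.x ν j : ℚ) : ℝ) * (S.ip (S.E j) (S.E i) : ℝ)))) := by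
      refine ((tendsto_const_nhds.mul (hinv.mul hinv)).add (((tendsto_const_nhds.add
        (tendsto_finsetSum _ fun i _ => (hfl i).mul tendsto_const_nhds))).mul hinv)).add
        ((tendsto_const_nhds.add (tendsto_const_nhds.mul (tendsto_finsetSum _ fun i _ =>
          (hfl i).mul tendsto_const_nhds))).add (tendsto_finsetSum _ fun i _ => (hfl i).mul
            (tendsto_finsetSum _ fun j _ => (hfl j).mul tendsto_const_nhds)))
    have e3 : 2 * (S.χ 1 : ℝ) * (0 * 0) + ((S.psi ν : ℝ) + ∑ i, ((S.x ν i : ℚ) : ℝ) * (S.psi (S.E i) : ℝ)) * 0 +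
        ((S.ip ν ν : ℝ) + 2 * ∑ i, ((S.x ν i : ℚ) : ℝ) * (S.ip (S.E i) ν : ℝ) +
          ∑ i, ((S.x ν i : ℚ) : ℝ) * ∑ j, ((S.x ν j : ℚ) : ℝ) * (S.ip (S.E j) (S.E i) : ℝ)) = ((S.B ν ν : ℚ) : ℝ) := by
      have h1 : ∀ i, ∑ j, S.x ν j * (S.ip (S.E j) (S.E i) : ℚ) = (S.deg i ν : ℚ) := fun i => by
        have := S.sum_mat_x ν i
        have h2 : ∑ j, S.x ν j * (S.ip (S.E j) (S.E i) : ℚ) = - ∑ j, (S.mat i j : ℚ) * S.x ν j := by
          rw [← Finset.sum_neg_distrib]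
          refine Finset.sum_congr rfl fun j _ => ?_
          rw [mat, S.deg_eq, S.ip_comm]; push_cast; ring
        rw [h2, this, neg_neg]
      have h2 : (S.ip ν ν : ℚ) + 2 * ∑ i, S.x ν i * (S.ip (S.E i) ν : ℚ) +
          ∑ i, S.x ν i * ∑ j, S.x ν j * (S.ip (S.E j) (S.E i) : ℚ) = S.B ν ν := by
        have h3 : ∑ i, S.x ν i * (S.ip (S.E i) ν : ℚ) = - ∑ i, S.x ν i * (S.deg i ν : ℚ) := by
          rw [← Finset.sum_neg_distrib]
          exact Finset.sum_congr rfl fun i _ => by rw [S.ip_E]; push_cast; ring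
        have h4 : ∑ i, S.x ν i * ∑ j, S.x ν j * (S.ip (S.E j) (S.E i) : ℚ) = ∑ i, S.x ν i * (S.deg i ν : ℚ) :=
          Finset.sum_congr rfl fun i _ => by rw [h1 i]
        rw [h3, h4, B]; ring
      rw [← h2]
      push_cast
      ring
    rw [e3] at e2
    refine e2.congr' ?_
    filter_upwards [eventually_gt_atTop 0] with m hm
    exact (e1 m hm).symm
  have hdiff : Tendsto (fun m : ℕ => (2 : ℝ) * (S.Φ (S.hull ν ^ m) : ℝ) / ((m : ℝ) ^ 2) -
      (2 : ℝ) * (S.χ (S.app ν m) : ℝ) / ((m : ℝ) ^ 2)) atTop (𝓝 0) := by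
    rw [tendsto_zero_iff_norm_tendsto_zero]
    refine squeeze_zero' (Eventually.of_forall fun m => norm_nonneg _) (g := fun m : ℕ => 2 * (K : ℝ) * ((m : ℝ)⁻¹ * (m : ℝ)⁻¹)) ?_ ?_
    · filter_upwards [eventually_gt_atTop 0] with m hm
      have hm' : (0 : ℝ) < m := by exact_mod_cast hm
      rw [Real.norm_eq_abs, ← sub_div, abs_div, abs_of_pos (pow_pos hm' 2), div_eq_mul_inv]
      have : ((m : ℝ) ^ 2)⁻¹ = (m : ℝ)⁻¹ * (m : ℝ)⁻¹ := by rw [sq, mul_inv]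
      rw [this]
      exact mul_le_mul_of_nonneg_right (hK' m) (by positivity)
    · have := (tendsto_const_nhds (x := 2 * (K : ℝ))).mul (hinv.mul hinv)
      simpa using this
  have := hdiff.add key
  simpa using this

/-! ### The form on `C` -/

/-- The quadratic form on `C`. -/
noncomputable def q (c : C) : ℚ := S.B (S.hull_surj c).choose (S.hull_surj c).choose

/-- (1) the limit. -/
theorem lim (c : C) : Tendsto (fun m : ℕ => (2 : ℝ) * (S.Φ (c ^ m) : ℝ) / ((m : ℝ) ^ 2)) atTop (𝓝 ((S.q c : ℚ) : ℝ)) := by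
  have h := S.tendsto (S.hull_surj c).choose
  rw [(S.hull_surj c).choose_spec] at h
  exact h

/-- (1) the limit, without the factor `2`. -/
theorem lim_half (c : C) :
    Tendsto (fun m : ℕ => (S.Φ (c ^ m) : ℝ) / ((m : ℝ) ^ 2)) atTop (𝓝 ((S.q c / 2 : ℚ) : ℝ)) := by
  have h := (S.lim c).div_const 2
  have e : ((S.q c / 2 : ℚ) : ℝ) = ((S.q c : ℚ) : ℝ) / 2 := by push_cast; ring
  rw [e]
  refine h.congr fun m => ?_
  ring

theorem eq_q {c : C} {t : ℝ}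
    (h : Tendsto (fun m : ℕ => (2 : ℝ) * (S.Φ (c ^ m) : ℝ) / ((m : ℝ) ^ 2)) atTop (𝓝 t)) : t = ((S.q c : ℚ) : ℝ) :=
  tendsto_nhds_unique h (S.lim c)

theorem q_hull (ν : P) : S.q (S.hull ν) = S.B ν ν := by
  have := S.eq_q (S.tendsto ν)
  exact_mod_cast this.symm

/-- The pairing on `C`. -/
noncomputable def b (c d : C) : ℚ := (S.q (c * d) - S.q c - S.q d) / 2

theorem b_hull (ν μ : P) : S.b (S.hull ν) (S.hull μ) = S.B ν μ := by
  rw [b, ← map_mul, S.q_hull, S.q_hull, S.q_hull, S.B_sq_mul]; ring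

theorem b_mul (c c' d : C) : S.b (c * c') d = S.b c d + S.b c' d := by
  obtain ⟨ν, rfl⟩ := S.hull_surj c
  obtain ⟨ν', rfl⟩ := S.hull_surj c'
  obtain ⟨μ, rfl⟩ := S.hull_surj d
  rw [← map_mul, S.b_hull, S.b_hull, S.b_hull, S.B_mul]

theorem b_comm (c d : C) : S.b c d = S.b d c := by
  rw [b, b, mul_comm c d]; ring

theorem b_mul' (c d d' : C) : S.b c (d * d') = S.b c d + S.b c d' := by
  rw [S.b_comm, S.b_mul, S.b_comm d, S.b_comm d']

theorem b_self (c : C) : S.b c c = S.q c := by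
  obtain ⟨ν, rfl⟩ := S.hull_surj c
  rw [S.b_hull, S.q_hull]

theorem q_mul (c d : C) : S.q (c * d) = S.q c + S.q d + 2 * S.b c d := by rw [b]; ring

/-- (2) the cube identity. -/
theorem cube (c d e : C) :
    S.q (c * d * e) - S.q (c * d) - S.q (c * e) - S.q (d * e) + S.q c + S.q d + S.q e = 0 := by
  rw [S.q_mul (c * d) e, S.b_mul, S.q_mul c e, S.q_mul d e]; ring

/-- The pairing as a homomorphism in the first variable. -/
noncomputable def bH (d : C) : C →* Multiplicative ℚ :=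
  MonoidHom.mk' (fun c => Multiplicative.ofAdd (S.b c d)) fun c c' => by rw [S.b_mul, ofAdd_add]

theorem b_zpow (c d : C) (n : ℤ) : S.b (c ^ n) d = n * S.b c d := by
  have h : S.bH d (c ^ n) = S.bH d c ^ n := map_zpow _ _ _
  have h2 := congrArg Multiplicative.toAdd h
  rwa [toAdd_zpow, zsmul_eq_mul] at h2

theorem b_prod {ι : Type*} (s : Finset ι) (f : ι → C) (d : C) : S.b (∏ i ∈ s, f i) d = ∑ i ∈ s, S.b (f i) d := by
  have h : S.bH d (∏ i ∈ s, f i) = ∏ i ∈ s, S.bH d (f i) := map_prod _ _ _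
  have h2 := congrArg Multiplicative.toAdd h
  rwa [toAdd_prod] at h2

/-- (3) bounded denominators. -/
theorem denominators : ∃ N : ℕ, 0 < N ∧ ∀ c d : C, ∃ z : ℤ, (N : ℚ) * S.b c d = z := by
  refine ⟨S.D.natAbs, Int.natAbs_pos.mpr S.D_ne_zero, fun c d => ?_⟩
  obtain ⟨ν, rfl⟩ := S.hull_surj c
  obtain ⟨μ, rfl⟩ := S.hull_surj d
  rw [S.b_hull]
  obtain ⟨z, hz⟩ := S.exists_int ν μ
  have h1 : ((S.D.natAbs : ℕ) : ℚ) = ((|S.D| : ℤ) : ℚ) := by rw [← Int.natCast_natAbs]; simp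
  rw [h1]
  rcases abs_choice S.D with h | h
  · exact ⟨z, by rw [h, hz]⟩
  · refine ⟨-z, ?_⟩
    rw [h, Int.cast_neg, neg_mul, hz, Int.cast_neg]

/-! ### Hodge index -/

/-- `D` times the pull-back. -/
def rho (ν : P) : P := ν ^ S.D * ∏ i, S.E i ^ S.y ν i

theorem ip_rho (ν μ : P) : (S.ip (S.rho ν) (S.rho μ) : ℚ) = (S.D : ℚ) ^ 2 * S.B ν μ := by
  have h1 : ∀ (ν b : P), S.ip (S.rho ν) b = S.D * S.ip ν b + ∑ i, S.y ν i * S.ip (S.E i) b := by
    intro ν b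
    rw [rho, S.ip_mul, S.ip_zpow, S.ip_prod]
    congr 1
    exact Finset.sum_congr rfl fun i _ => S.ip_zpow _ _ _
  have h2 : ∀ (i : Fin r) (μ : P), S.ip (S.E i) (S.rho μ) = 0 := by
    intro i μ
    rw [S.ip_comm, h1, S.ip_comm μ, S.ip_E]
    have h3 : ∑ j, S.y μ j * S.ip (S.E j) (S.E i) = - ∑ j, S.mat i j * S.y μ j := by
      rw [← Finset.sum_neg_distrib]
      refine Finset.sum_congr rfl fun j _ => ?_
      rw [mat, S.deg_eq, S.ip_comm (S.E i)]; ring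
    rw [h3, S.sum_mat_y]; ring
  rw [h1 ν]
  rw [Finset.sum_congr rfl fun i _ => by rw [h2 i μ, mul_zero], Finset.sum_const_zero, add_zero, S.ip_comm ν, h1 μ, B]
  push_cast
  rw [S.ip_comm μ ν]
  have h4 : ∑ i, (S.y μ i : ℚ) * (S.ip (S.E i) ν : ℚ) = - ((S.D : ℚ) * ∑ i, S.x μ i * (S.deg i ν : ℚ)) := by
    rw [Finset.mul_sum, ← Finset.sum_neg_distrib]
    refine Finset.sum_congr rfl fun i _ => ?_
    rw [S.ip_E, ← S.D_mul_x]; push_cast; ring
  have h5 : ∑ j, S.x ν j * (S.deg j μ : ℚ) = ∑ i, S.x μ i * (S.deg i ν : ℚ) := by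
    have := S.B_comm ν μ
    unfold B at this
    rw [S.ip_comm μ ν] at this
    linarith
  rw [h4, h5]; ring

theorem ip_eq_zero_of_perp {h x w : P} (neg : ∀ w : P, S.ip h w = 0 → S.ip w w ≤ 0) (hx : S.ip h x = 0)
    (h0 : S.ip x x = 0) (hw : S.ip h w = 0) : S.ip x w = 0 := by
  have h4 : ∀ t : ℤ, 2 * t * S.ip x w + S.ip w w ≤ 0 := by
    intro t
    have h5 : S.ip h (x ^ t * w) = 0 := by rw [S.ip_mul', S.ip_zpow', hx, hw]; ring
    have h6 := neg _ h5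
    have h7 : S.ip (x ^ t * w) (x ^ t * w) = 2 * t * S.ip x w + S.ip w w := by
      rw [S.ip_mul', S.ip_mul, S.ip_mul]
      simp only [S.ip_zpow, S.ip_zpow']
      rw [S.ip_comm w x, h0]; ring
    rwa [h7] at h6
  by_contra hne
  have a1 := h4 (S.ip x w * (1 + |S.ip w w|))
  have a2 : 0 < S.ip x w * S.ip x w := mul_self_pos.mpr hne
  have a3 := neg_abs_le (S.ip w w)
  have a4 := abs_nonneg (S.ip w w)
  nlinarith

/-- The Hodge index theorem for `P` in terms of any class of positive square. -/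
theorem hodge_P {h : P} (hh : 0 < S.ip h h) (hodge : ∀ x : P, S.ip h h * S.ip x x ≤ S.ip h x ^ 2) {d x : P}
    (hd : 0 < S.ip d d) (hdx : S.ip d x = 0) :
    S.ip x x ≤ 0 ∧ (S.ip x x = 0 → ∀ z, S.ip x z = 0) := by
  have key : ∀ w : P, S.ip h w = 0 → S.ip w w ≤ 0 := by
    intro w hw
    have := hodge w
    rw [hw] at this
    nlinarith
  -- the class `y = (h·x) d - (h·d) x`
  have hy : S.ip h (d ^ (S.ip h x) * x ^ (-(S.ip h d))) = 0 := by
    rw [S.ip_mul', S.ip_zpow', S.ip_zpow']; ring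
  have hyy : S.ip (d ^ (S.ip h x) * x ^ (-(S.ip h d))) (d ^ (S.ip h x) * x ^ (-(S.ip h d))) =
      S.ip h x ^ 2 * S.ip d d + S.ip h d ^ 2 * S.ip x x := by
    rw [S.ip_mul', S.ip_mul, S.ip_mul]
    simp only [S.ip_zpow, S.ip_zpow']
    rw [S.ip_comm x d, hdx]; ring
  have h1 := key _ hy
  rw [hyy] at h1
  have h2 : S.ip x x ≤ 0 := by
    by_contra hcon
    push Not at hcon
    have h3 : S.ip h x = 0 := by
      by_contra hne
      have : 0 < S.ip h x ^ 2 * S.ip d d := mul_pos (by positivity) hd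
      have h4 : 0 ≤ S.ip h d ^ 2 * S.ip x x := mul_nonneg (sq_nonneg _) hcon.le
      linarith
    exact absurd (key x h3) (not_le.mpr hcon)
  refine ⟨h2, fun h0 z => ?_⟩
  have h3 : S.ip h x = 0 := by
    by_contra hne
    have : 0 < S.ip h x ^ 2 * S.ip d d := mul_pos (by positivity) hd
    rw [h0] at h1
    linarith
  -- `w = h² z - (h·z) h`
  have hw : S.ip h (z ^ (S.ip h h) * h ^ (-(S.ip h z))) = 0 := by
    rw [S.ip_mul', S.ip_zpow', S.ip_zpow']; ring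
  have hxw : S.ip x (z ^ (S.ip h h) * h ^ (-(S.ip h z))) = S.ip h h * S.ip x z := by
    rw [S.ip_mul', S.ip_zpow', S.ip_zpow', S.ip_comm x h, h3]; ring
  have h5 := S.ip_eq_zero_of_perp key h3 h0 hw
  rw [hxw] at h5
  rcases mul_eq_zero.mp h5 with h | h
  · exact absurd h hh.ne'
  · exact h

/-- (4) Hodge index on `C`. -/
theorem hodge {h : P} (hh : 0 < S.ip h h) (hodge : ∀ x : P, S.ip h h * S.ip x x ≤ S.ip h x ^ 2) {c e : C}
    (hc : 0 < S.q c) (hce : S.b c e = 0) : S.q e ≤ 0 ∧ (S.q e = 0 → ∀ f, S.b e f = 0) := by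
  obtain ⟨ν, rfl⟩ := S.hull_surj c
  obtain ⟨μ, rfl⟩ := S.hull_surj e
  rw [S.q_hull] at hc ⊢
  rw [S.b_hull] at hce
  have hD : (0 : ℚ) < (S.D : ℚ) ^ 2 := by
    have : (S.D : ℚ) ≠ 0 := by exact_mod_cast S.D_ne_zero
    positivity
  have h1 : 0 < S.ip (S.rho ν) (S.rho ν) := by
    have : (0 : ℚ) < (S.ip (S.rho ν) (S.rho ν) : ℚ) := by rw [S.ip_rho]; exact mul_pos hD hc
    exact_mod_cast this
  have h2 : S.ip (S.rho ν) (S.rho μ) = 0 := by
    have : (S.ip (S.rho ν) (S.rho μ) : ℚ) = 0 := by rw [S.ip_rho, hce, mul_zero]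
    exact_mod_cast this
  obtain ⟨h3, h4⟩ := S.hodge_P hh hodge h1 h2
  constructor
  · have h5 : (S.ip (S.rho μ) (S.rho μ) : ℚ) ≤ 0 := by exact_mod_cast h3
    rw [S.ip_rho] at h5
    by_contra hcon
    push Not at hcon
    exact absurd h5 (not_le.mpr (mul_pos hD hcon))
  · intro h0 f
    obtain ⟨κ, rfl⟩ := S.hull_surj f
    have h6 : S.ip (S.rho μ) (S.rho μ) = 0 := by
      have : (S.ip (S.rho μ) (S.rho μ) : ℚ) = 0 := by rw [S.ip_rho, h0, mul_zero]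
      exact_mod_cast this
    have h7 := h4 h6 (S.rho κ)
    have h8 : (S.D : ℚ) ^ 2 * S.B μ κ = 0 := by rw [← S.ip_rho, h7]; norm_num
    rw [S.b_hull]
    exact (mul_eq_zero.mp h8).resolve_left hD.ne'

/-- The numerically trivial classes. -/
def numTriv : Subgroup P where
  carrier := {x | ∀ y, S.ip x y = 0}
  one_mem' y := S.ip_one y
  mul_mem' {a b} ha hb y := by rw [S.ip_mul, ha y, hb y, add_zero]
  inv_mem' {a} ha y := by rw [← zpow_neg_one, S.ip_zpow, ha y, mul_zero]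

/-- (5) finite generation. -/
theorem exists_generators (hfg : Group.FG (P ⧸ S.numTriv)) :
    ∃ (t : ℕ) (A : Fin t → C), ∀ c : C, ∃ n : Fin t → ℤ, ∀ d : C, S.b c d = ∑ j, (n j : ℚ) * S.b (A j) d := by
  obtain ⟨s, hs⟩ := hfg.out
  obtain ⟨t, e, he⟩ : ∃ (t : ℕ) (e : Fin t → P ⧸ S.numTriv), Set.range e = s := by
    refine ⟨s.card, fun i => (s.equivFin.symm i : P ⧸ S.numTriv), ?_⟩
    ext x
    constructor
    · rintro ⟨i, rfl⟩
      exact (s.equivFin.symm i).2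
    · intro hx
      exact ⟨s.equivFin ⟨x, hx⟩, by simp⟩
  refine ⟨t, fun j => S.hull (Quotient.out (e j)), fun c => ?_⟩
  obtain ⟨ν, rfl⟩ := S.hull_surj c
  have hmem : (ν : P ⧸ S.numTriv) ∈ Subgroup.closure (Set.range e) := by rw [he, hs]; trivial
  rw [Subgroup.mem_closure_range_iff_of_fintype] at hmem
  obtain ⟨a, ha⟩ := hmem
  refine ⟨fun j => a j, fun d => ?_⟩
  obtain ⟨μ, rfl⟩ := S.hull_surj d
  -- `ν` and `∏ out (e j) ^ a j` differ by a numerically trivial class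
  have h1 : ν⁻¹ * ∏ j, Quotient.out (e j) ^ a j ∈ S.numTriv := by
    rw [← QuotientGroup.eq, ha]
    symm
    rw [← QuotientGroup.mk'_apply, map_prod]
    refine Finset.prod_congr rfl fun j _ => ?_
    rw [map_zpow]
    congr 1
    exact Quotient.out_eq (e j)
  have h2 : ∀ n ∈ S.numTriv, S.B n μ = 0 := by
    intro n hn
    have hx : ∀ j, S.x n j = 0 := by
      intro j
      rw [x, y, Finset.sum_eq_zero fun l _ => ?_, neg_zero, Int.cast_zero, zero_div]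
      rw [S.deg_eq, S.ip_comm, hn, neg_zero, mul_zero]
    unfold B
    rw [Finset.sum_eq_zero fun j _ => by rw [hx j, zero_mul]]
    have := hn μ
    rw [this]; norm_num
  have h3 : S.B (∏ j, Quotient.out (e j) ^ a j) μ = S.B ν μ := by
    have h4 := S.B_mul ν (ν⁻¹ * ∏ j, Quotient.out (e j) ^ a j) μ
    rw [h2 _ h1, add_zero, mul_inv_cancel_left] at h4
    exact h4
  rw [S.b_hull, ← h3, ← S.b_hull, map_prod, S.b_prod]
  refine Finset.sum_congr rfl fun j _ => ?_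
  rw [map_zpow, S.b_zpow]

end Data

end K424.AbsSurf
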