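import Groth.Agent.Fga.AltSum
import Mathlib.Algebra.MonoidAlgebra.Basic
import Mathlib.Analysis.SpecificLimits.Basic
import Mathlib.Tactic

/-!
# Reduction of mixed differences to generators of a group, modulo higher order terms

`e g` is the class of `g` in the monoid ring `ℤ[G]`, `ext φ : ℤ[G] →+ ℤ` the additive extension of `φ : G → ℤ`;
`ext_prod : ext φ (∏ (1 - e (g i))) = dSum φ g`.  `mem_of_gen`: if a subgroup `V` of `ℤ[G]` contains all
`(∏_{i < s} (1 - e (g i))) (1 - e y)` and contains `∏_{i < s} (1 - e (g i))` for `g i` in a set of generators, then it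
contains all `∏_{i < s} (1 - e (g i))`.  `limSub`, `cubeSub` are the subgroups to which this is applied.
-/

set_option autoImplicit false

open Finset Filter Topology Groth.Agent.Fga.AltSum

namespace K424.VaRed

section Alg

variable {G : Type*} [CommMonoid G]

/-- The class of `g` in the monoid ring. -/
noncomputable def e : G →* MonoidAlgebra ℤ G := MonoidAlgebra.of ℤ G

/-- The additive extension of a function on `G`. -/
noncomputable def ext (φ : G → ℤ) : MonoidAlgebra ℤ G →+ ℤ := MonoidAlgebra.liftNC (AddMonoidHom.id ℤ) φ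

theorem ext_e (φ : G → ℤ) (g : G) : ext φ (e g) = φ g := by
  unfold ext e
  rw [MonoidAlgebra.of_apply, MonoidAlgebra.liftNC_single]
  simp

theorem prod_eq {r : ℕ} (g : Fin r → G) :
    (∏ i, (1 - e (g i))) = ∑ I : Finset (Fin r), (-1 : ℤ) ^ I.card • e (∏ i ∈ I, g i) := by
  have h : (∏ i, (1 - e (g i))) = ∏ i, (1 + - e (g i)) := Finset.prod_congr rfl fun i _ => sub_eq_add_neg _ _
  rw [h, Finset.prod_one_add, Finset.powerset_univ]
  refine Finset.sum_congr rfl fun I _ => ?_
  rw [Finset.prod_neg, map_prod]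
  simp [zsmul_eq_mul]

/-- The mixed difference. -/
theorem ext_prod (φ : G → ℤ) {r : ℕ} (g : Fin r → G) : ext φ (∏ i, (1 - e (g i))) = dSum φ g := by
  rw [prod_eq, map_sum]
  unfold dSum
  refine Finset.sum_congr rfl fun I _ => ?_
  rw [map_zsmul, ext_e, smul_eq_mul]

theorem ext_prod_mul (φ : G → ℤ) {r : ℕ} (g : Fin r → G) (y : G) :
    ext φ ((∏ i, (1 - e (g i))) * (1 - e y)) = dSum φ (Fin.cons y g : Fin (r + 1) → G) := by
  rw [← ext_prod, Fin.prod_univ_succ, mul_comm]
  simp only [Fin.cons_zero, Fin.cons_succ]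

/-- **The reduction.** -/
theorem mem_of_gen {s : ℕ} (V : AddSubgroup (MonoidAlgebra ℤ G)) (A J : Set G) (hAJ : A ⊆ J)
    (h1 : ∀ g : Fin s → G, (∀ i, g i ∈ A) → ∏ i, (1 - e (g i)) ∈ V)
    (h2 : ∀ (g : Fin s → G) (y : G), (∀ i, g i ∈ J) → y ∈ J → (∏ i, (1 - e (g i))) * (1 - e y) ∈ V)
    (h3 : ∀ g ∈ J, ∃ x ∈ A, ∃ y ∈ A, g * y = x)
    (g : Fin s → G) (hg : ∀ i, g i ∈ J) : ∏ i, (1 - e (g i)) ∈ V := by
  classical
  suffices H : ∀ (T : Finset (Fin s)) (g : Fin s → G), (∀ i, g i ∈ J) → (∀ i, i ∉ T → g i ∈ A) →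
      ∏ i, (1 - e (g i)) ∈ V from H Finset.univ g hg fun i hi => absurd (Finset.mem_univ i) hi
  intro T
  induction T using Finset.induction_on with
  | empty => exact fun g _ hA => h1 g fun i => hA i (Finset.notMem_empty i)
  | insert a T ha ih =>
    intro g hJ hA
    obtain ⟨x, hx, y, hy, hxy⟩ := h3 (g a) (hJ a)
    have key : ∀ z : G, ∏ i, (1 - e (Function.update g a z i)) =
        (1 - e z) * ∏ i ∈ Finset.univ.erase a, (1 - e (g i)) := by
      intro z
      rw [← Finset.mul_prod_erase Finset.univ _ (Finset.mem_univ a), Function.update_self]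
      congr 1
      refine Finset.prod_congr rfl fun i hi => ?_
      rw [Function.update_of_ne (Finset.ne_of_mem_erase hi)]
    have hupd : ∀ z ∈ A, ∏ i, (1 - e (Function.update g a z i)) ∈ V := by
      intro z hz
      refine ih _ (fun i => ?_) fun i hi => ?_
      · by_cases h : i = a
        · subst h; rw [Function.update_self]; exact hAJ hz
        · rw [Function.update_of_ne h]; exact hJ i
      · by_cases h : i = a
        · subst h; rw [Function.update_self]; exact hz
        · rw [Function.update_of_ne h]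
          exact hA i fun h' => (Finset.mem_insert.1 h').elim h hi
    have h4 := h2 g y hJ (hAJ hy)
    have h5 : ∏ i, (1 - e (g i)) = (1 - e (g a)) * ∏ i ∈ Finset.univ.erase a, (1 - e (g i)) := by
      rw [Finset.mul_prod_erase Finset.univ (fun i => 1 - e (g i)) (Finset.mem_univ a)]
    have h6 : ∏ i, (1 - e (g i)) = (∏ i, (1 - e (Function.update g a x i)) - ∏ i, (1 - e (Function.update g a y i))) +
        (∏ i, (1 - e (g i))) * (1 - e y) := by
      rw [key, key, h5, ← hxy, map_mul]
      ring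
    rw [h6]
    exact V.add_mem (V.sub_mem (hupd x hx) (hupd y hy)) h4

end Alg

section Lim

variable {R : Type*} [AddCommGroup R]

/-- The elements on which a sequence of additive functions grows quadratically with rational coefficient. -/
def limSub (Λ : ℕ → R →+ ℤ) : AddSubgroup R where
  carrier := {α | ∃ q : ℚ, Tendsto (fun m : ℕ => (Λ m α : ℝ) / ((m : ℝ) ^ 2)) atTop (𝓝 (q : ℝ))}
  zero_mem' := ⟨0, by simp⟩
  add_mem' := by
    rintro a b ⟨p, hp⟩ ⟨q, hq⟩
    refine ⟨p + q, ?_⟩
    have h := hp.add hq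
    have e : ((p + q : ℚ) : ℝ) = (p : ℝ) + (q : ℝ) := by push_cast; ring
    rw [e]
    refine h.congr fun m => ?_
    rw [map_add]; push_cast; ring
  neg_mem' := by
    rintro a ⟨p, hp⟩
    refine ⟨-p, ?_⟩
    have h := hp.neg
    have e : ((-p : ℚ) : ℝ) = -(p : ℝ) := by push_cast; ring
    rw [e]
    refine h.congr fun m => ?_
    rw [map_neg]; push_cast; ring

/-- The elements on which a signed sum of quadratic growth coefficients vanishes. -/
def cubeSub {J : Type*} [Fintype J] (ε : J → ℝ) (Λ : J → ℕ → R →+ ℤ) : AddSubgroup R where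
  carrier := {α | ∃ q : J → ℝ, (∀ j, Tendsto (fun m : ℕ => (Λ j m α : ℝ) / ((m : ℝ) ^ 2)) atTop (𝓝 (q j))) ∧
    ∑ j, ε j * q j = 0}
  zero_mem' := ⟨0, by simp, by simp⟩
  add_mem' := by
    rintro a b ⟨p, hp, hp0⟩ ⟨q, hq, hq0⟩
    refine ⟨p + q, fun j => ?_, ?_⟩
    · refine ((hp j).add (hq j)).congr fun m => ?_
      rw [map_add]; push_cast; ring
    · simp only [Pi.add_apply, mul_add, Finset.sum_add_distrib, hp0, hq0, add_zero]
  neg_mem' := by
    rintro a ⟨p, hp, hp0⟩
    refine ⟨-p, fun j => ?_, ?_⟩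
    · refine (hp j).neg.congr fun m => ?_
      rw [map_neg]; push_cast; ring
    · simp only [Pi.neg_apply, mul_neg, Finset.sum_neg_distrib, hp0, neg_zero]

/-- Linear growth: the limit of `(a m + b)/m²` is zero. -/
theorem tendsto_linear (f : ℕ → ℤ) (a b : ℤ) (h : ∀ m : ℕ, f m = m * a + b) :
    Tendsto (fun m : ℕ => (f m : ℝ) / ((m : ℝ) ^ 2)) atTop (𝓝 0) := by
  have h1 : Tendsto (fun m : ℕ => (a : ℝ) * (1 / (m : ℝ)) + (b : ℝ) * (1 / (m : ℝ)) ^ 2) atTop (𝓝 0) := by
    have h0 := tendsto_one_div_atTop_nhds_zero_nat (𝕜 := ℝ)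
    have h2 := (h0.const_mul (a : ℝ)).add ((h0.pow 2).const_mul (b : ℝ))
    simpa using h2
  refine h1.congr fun m => ?_
  rw [h m]
  by_cases hm : (m : ℝ) = 0
  · rw [hm]; simp
  · push_cast; field_simp

end Lim

end K424.VaRed
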