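import Groth.Agent.RefCh.K424.VaAlg
import Groth.Agent.RefCh.K938.IntF
import Groth.Agent.RefCh.K939.GenHypVA
import Groth.Agent.Fga.HodgeIneq
import Groth.Agent.Ega2.AmpleVery
import Groth.Agent.S10965
import Groth.Agent.S2325
import Groth.Agent.Sga2lef.H24.ToPn
import Groth.Agent.Variety.K434.Vamp
import Groth.Agent.Surf.K465.RVA

/-!
# Reduction of quadratic growth statements from arbitrary to very ample line bundles

`X` proper integral normal of dimension `s + 2` over a field `k`, with an ample module.  `VAInv P` : `P` is inverse to an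
invertible module which is generated by sections with affine loci (`K939.GenHyp.GenAff`).

* `exists_limit` : if `intNum k X (s + 2) P (F^[m]) / m²` has a rational limit for all families `P` of `VAInv` modules then
  so it has for all families of invertible modules.
* `cube` : the same for vanishing signed sums of such limits.
-/

set_option autoImplicit false
universe u
open CategoryTheory CategoryTheory.Limits AlgebraicGeometry Opposite TopologicalSpace Filter Topology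

namespace K424.VaRed

open Groth.Agent Groth.Agent.Fga Groth.Agent.Fga.AltSum Groth.Agent.Fga.PicMon K939.Abs K939.GenHyp K939.GenHypVA

/-- `P` is inverse to an invertible module generated by sections with affine loci of generation. -/
def VAInv {X : Scheme.{u}} (P : X.Modules) : Prop :=
  ∃ L : X.Modules, PicF.IsInvertible L ∧ GenAff L ∧ Nonempty (CohB1.tensorMod P L ≅ Coh.structureModule X)

theorem isUnit_mc {X : Scheme.{u}} {L : X.Modules} (hL : PicF.IsInvertible L) : IsUnit (mc L) := by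
  obtain ⟨M, -, ⟨e⟩⟩ := Grpsch.PicGrp.exists_inverse hL
  exact IsUnit.of_mul_eq_one (mc M) ((mc_tensor L M).symm.trans (mc_eq e))

theorem exists_invertible {X : Scheme.{u}} {c : MC X} (hc : IsUnit c) :
    ∃ L : X.Modules, PicF.IsInvertible L ∧ mc L = c := by
  obtain ⟨u, rfl⟩ := hc
  exact HodgeIneq.exists_invertible u

theorem isUnit_of_vaInv {X : Scheme.{u}} {P : X.Modules} (hP : VAInv P) : IsUnit (mc P) := by
  obtain ⟨L, _, _, ⟨e⟩⟩ := hP
  exact IsUnit.of_mul_eq_one (mc L) ((mc_tensor P L).symm.trans (mc_eq e))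

theorem VAInv.isInvertible {X : Scheme.{u}} {P : X.Modules} (hP : VAInv P) : PicF.IsInvertible P := by
  obtain ⟨L, _, _, ⟨e⟩⟩ := hP
  exact S2122.result P L e

section

variable (k : Type u) [Field k] {X : Scheme.{u}} [X.Over (Spec (CommRingCat.of k))]
  [IsProper (X ↘ Spec (CommRingCat.of k))]

theorem genAff_of_rva {L : X.Modules} (h : RelAmple.IsRelVeryAmplePn (X ↘ Spec (CommRingCat.of k)) L) : GenAff L := by
  obtain ⟨r, j, hj, -, ⟨e⟩⟩ := Sga2lef.H24.ToPn.exists_closedImmersion (X ↘ Spec (CommRingCat.of k)) L h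
  exact genAff_of_veryAmple r k j e

include k in
/-- Every invertible module is a quotient of two modules generated by sections with affine loci. -/
theorem exists_genAff {H : X.Modules} (hH : CohB1.IsAmple H) {L : X.Modules} (hL : PicF.IsInvertible L) :
    ∃ A B : X.Modules, PicF.IsInvertible A ∧ PicF.IsInvertible B ∧ GenAff A ∧ GenAff B ∧ mc L * mc B = mc A := by
  have : IsSeparated (X ↘ Spec (CommRingCat.of k)) := inferInstance
  have hsep : X.IsSeparated := ⟨by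
    have := (inferInstance : IsSeparated (X ↘ Spec (CommRingCat.of k)))
    rw [show terminal.from X = (X ↘ Spec (CommRingCat.of k)) ≫ terminal.from _ from (terminal.hom_ext _ _)]
    infer_instance⟩
  have cX : CompactSpace X := (quasiCompact_iff_compactSpace (X ↘ Spec (CommRingCat.of k))).mp inferInstance
  obtain ⟨n₁, h1⟩ := S2325.result X H hH L (CurvesB.VeryAmple.isCoh_of_isInvertible hL)
  obtain ⟨n₀, h0⟩ := Ega2.AmpleVery.exists_forall_isRelVeryAmplePn (X ↘ Spec (CommRingCat.of k)) hH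
  have hL' : PicF.IsInvertible (CohB1.tensorMod L (CohB1.tensorPow H n₁)) :=
    Fdesc.LocGen.isInvertible_tensorMod hL (Fdesc.LocGen.isInvertible_tensorPow hH.1 _)
  obtain ⟨r, t, ht⟩ := K434.Vamp.exists_generatedBy hL' (h1 n₁ le_rfl)
  have h2 := S10965.result (X ↘ Spec (CommRingCat.of k)) (CohB1.tensorPow H n₀) _
    (Fdesc.LocGen.isInvertible_tensorPow hH.1 _) (h0 n₀ le_rfl) hL' t ht
  refine ⟨_, CohB1.tensorPow H (n₀ + n₁), Fdesc.LocGen.isInvertible_tensorMod (Fdesc.LocGen.isInvertible_tensorPow hH.1 _) hL',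
    Fdesc.LocGen.isInvertible_tensorPow hH.1 _, genAff_of_rva k h2, genAff_of_rva k (h0 _ (by omega)), ?_⟩
  rw [mc_tensor, mc_tensor, mc_tensorPow, mc_tensorPow, mc_tensorPow, pow_add]
  ac_rfl

include k in
/-- The generation property of the classes. -/
theorem gen {H : X.Modules} (hH : CohB1.IsAmple H) {g : MC X} (hg : IsUnit g) :
    ∃ x ∈ {c : MC X | ∃ P : X.Modules, VAInv P ∧ mc P = c},
      ∃ y ∈ {c : MC X | ∃ P : X.Modules, VAInv P ∧ mc P = c}, g * y = x := by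
  obtain ⟨M, hM, rfl⟩ := exists_invertible hg
  obtain ⟨L, hL, ⟨e⟩⟩ := Grpsch.PicGrp.exists_inverse hM
  obtain ⟨A, B, hA, hB, gA, gB, hAB⟩ := exists_genAff k hH hL
  obtain ⟨A', hA', ⟨eA⟩⟩ := Grpsch.PicGrp.exists_inverse hA
  obtain ⟨B', hB', ⟨eB⟩⟩ := Grpsch.PicGrp.exists_inverse hB
  have e1 : mc M * mc L = 1 := (mc_tensor M L).symm.trans (mc_eq e)
  have e2 : mc A * mc A' = 1 := (mc_tensor A A').symm.trans (mc_eq eA)
  have e3 : mc B * mc B' = 1 := (mc_tensor B B').symm.trans (mc_eq eB)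
  refine ⟨mc A', ⟨A', ⟨A, hA, gA, ⟨Ega2.Tens.swap A' A ≪≫ eA⟩⟩, rfl⟩, mc B',
    ⟨B', ⟨B, hB, gB, ⟨Ega2.Tens.swap B' B ≪≫ eB⟩⟩, rfl⟩, ?_⟩
  calc mc M * mc B' = mc M * mc B' * (mc A * mc A') := by rw [e2, mul_one]
    _ = (mc M * mc L) * (mc B * mc B') * mc A' := by rw [← hAB]; ac_rfl
    _ = mc A' := by rw [e1, e3, one_mul, one_mul]

variable [IsIntegral X]

/-- The error term. -/
theorem tendsto_err {s : ℕ} (hdim : topologicalKrullDim X = (s + 2 : ℕ)) {F : X.Modules} (hF : Coh.IsCoh F)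
    (hF1 : Inv1 F) (g : Fin s → MC X) (y : MC X) (hg : ∀ i, IsUnit (g i)) (hy : IsUnit y) :
    Tendsto (fun m : ℕ => (ext (chiCl k X (s + 2) (RefPow.refPow F m)) ((∏ i, (1 - e (g i))) * (1 - e y)) : ℝ) /
      ((m : ℝ) ^ 2)) atTop (𝓝 0) := by
  obtain ⟨δ, hδ⟩ := exists_isSetup (X ↘ Spec (CommRingCat.of k))
  choose L hL hLg using fun i => exists_invertible (hg i)
  obtain ⟨Y, hY, rfl⟩ := exists_invertible hy
  have hcons : ∀ i, PicF.IsInvertible ((Fin.cons Y L : Fin (s + 1) → X.Modules) i) := by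
    intro i
    cases i using Fin.cases with
    | zero => exact hY
    | succ i => exact hL i
  have hadd := K938.IntF.isAdd2_intNum k (r := s + 1) (by rw [hdim]) (Fin.cons Y L : Fin (s + 1) → X.Modules) hcons
  refine tendsto_linear _ (FGA.intNum k X (s + 1 + 1) (Fin.cons Y L : Fin (s + 1) → X.Modules) F -
    FGA.intNum k X (s + 1 + 1) (Fin.cons Y L : Fin (s + 1) → X.Modules) (Coh.structureModule X))
    (FGA.intNum k X (s + 1 + 1) (Fin.cons Y L : Fin (s + 1) → X.Modules) (Coh.structureModule X)) fun m => ?_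
  have h1 := refPow_sub hδ hadd hF hF1 m
  have h2 : ext (chiCl k X (s + 2) (RefPow.refPow F m)) ((∏ i, (1 - e (g i))) * (1 - e (mc Y))) =
      FGA.intNum k X (s + 1 + 1) (Fin.cons Y L : Fin (s + 1) → X.Modules) (RefPow.refPow F m) := by
    rw [ext_prod_mul, intNum_eq_dSum, mc_cons]
    congr 2
    funext i
    exact (hLg i).symm
  rw [h2]
  rw [nsmul_eq_mul] at h1
  linarith

omit [IsProper (X ↘ Spec (CommRingCat.of k))] [IsIntegral X] in
theorem ext_eq_intNum {s : ℕ} (F : X.Modules) (g : Fin s → MC X) (M : Fin s → X.Modules) (h : ∀ i, mc (M i) = g i) :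
    ext (chiCl k X (s + 2) F) (∏ i, (1 - e (g i))) = FGA.intNum k X (s + 2) M F := by
  rw [ext_prod, intNum_eq_dSum]
  congr 1
  funext i
  exact (h i).symm

/-- **Existence of rational limits: reduction to very ample line bundles.** -/
theorem exists_limit {s : ℕ} (hdim : topologicalKrullDim X = (s + 2 : ℕ)) {H : X.Modules} (hH : CohB1.IsAmple H)
    {F : X.Modules} (hF : Coh.IsCoh F) (hF1 : Inv1 F)
    (hva : ∀ P : Fin s → X.Modules, (∀ i, VAInv (P i)) →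
      ∃ q : ℚ, Tendsto (fun m : ℕ => (FGA.intNum k X (s + 2) P (RefPow.refPow F m) : ℝ) / ((m : ℝ) ^ 2)) atTop
        (𝓝 (q : ℝ)))
    (M : Fin s → X.Modules) (hM : ∀ i, PicF.IsInvertible (M i)) :
    ∃ q : ℚ, Tendsto (fun m : ℕ => (FGA.intNum k X (s + 2) M (RefPow.refPow F m) : ℝ) / ((m : ℝ) ^ 2)) atTop
      (𝓝 (q : ℝ)) := by
  have key := mem_of_gen (limSub fun m => ext (chiCl k X (s + 2) (RefPow.refPow F m)))
    {c : MC X | ∃ P : X.Modules, VAInv P ∧ mc P = c} {c : MC X | IsUnit c}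
    (by rintro _ ⟨P, hP, rfl⟩; exact isUnit_of_vaInv hP) (fun g hg => ?_) (fun g y hg hy => ?_)
    (fun g hg => gen k hH hg) (fun i => mc (M i)) fun i => isUnit_mc (hM i)
  · obtain ⟨q, hq⟩ := key
    refine ⟨q, hq.congr fun m => ?_⟩
    rw [ext_eq_intNum k _ _ M fun i => rfl]
  · choose P hP hPg using hg
    obtain ⟨q, hq⟩ := hva P hP
    refine ⟨q, hq.congr fun m => ?_⟩
    rw [ext_eq_intNum k _ _ P hPg]
  · exact ⟨0, by simpa using tendsto_err k hdim hF hF1 g y hg hy⟩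

/-- **Signed sums of limits: reduction to very ample line bundles.** -/
theorem cube {s : ℕ} (hdim : topologicalKrullDim X = (s + 2 : ℕ)) {H : X.Modules} (hH : CohB1.IsAmple H)
    {J : Type*} [Fintype J] (ε : J → ℝ) (F : J → X.Modules) (hF : ∀ j, Coh.IsCoh (F j)) (hF1 : ∀ j, Inv1 (F j))
    (hva : ∀ P : Fin s → X.Modules, (∀ i, VAInv (P i)) → ∃ q : J → ℝ,
      (∀ j, Tendsto (fun m : ℕ => (FGA.intNum k X (s + 2) P (RefPow.refPow (F j) m) : ℝ) / ((m : ℝ) ^ 2)) atTop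
        (𝓝 (q j))) ∧ ∑ j, ε j * q j = 0)
    (M : Fin s → X.Modules) (hM : ∀ i, PicF.IsInvertible (M i)) :
    ∃ q : J → ℝ,
      (∀ j, Tendsto (fun m : ℕ => (FGA.intNum k X (s + 2) M (RefPow.refPow (F j) m) : ℝ) / ((m : ℝ) ^ 2)) atTop
        (𝓝 (q j))) ∧ ∑ j, ε j * q j = 0 := by
  have key := mem_of_gen (cubeSub ε fun j m => ext (chiCl k X (s + 2) (RefPow.refPow (F j) m)))
    {c : MC X | ∃ P : X.Modules, VAInv P ∧ mc P = c} {c : MC X | IsUnit c}
    (by rintro _ ⟨P, hP, rfl⟩; exact isUnit_of_vaInv hP) (fun g hg => ?_) (fun g y hg hy => ?_)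
    (fun g hg => gen k hH hg) (fun i => mc (M i)) fun i => isUnit_mc (hM i)
  · obtain ⟨q, hq, h0⟩ := key
    refine ⟨q, fun j => (hq j).congr fun m => ?_, h0⟩
    rw [ext_eq_intNum k _ _ M fun i => rfl]
  · choose P hP hPg using hg
    obtain ⟨q, hq, h0⟩ := hva P hP
    refine ⟨q, fun j => (hq j).congr fun m => ?_, h0⟩
    rw [ext_eq_intNum k _ _ P hPg]
  · exact ⟨0, fun j => tendsto_err k hdim (hF j) (hF1 j) g y hg hy, by simp⟩

end

/-! ### The forms used in the rows -/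

section Rows


variable (k : Type u) [Field k] (X : Scheme.{u}) [X.Over (Spec (CommRingCat.of k))]

/-- `X` closed in a projective space is proper and has an ample module. -/
theorem exists_ample (hproj : ∃ (N : ℕ) (ι : X ⟶ CohB1.ProjSpace N k), IsClosedImmersion ι ∧
      ι ≫ CohB1.ProjSpace.toSpec N k = X ↘ Spec (CommRingCat.of k)) :
    IsProper (X ↘ Spec (CommRingCat.of k)) ∧ ∃ H : X.Modules, CohB1.IsAmple H := by
  obtain ⟨N, ι, hι, h⟩ := hproj
  have hp := Ega3B.ProjProper.isProper_toSpec N k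
  have hpr : IsProper (X ↘ Spec (CommRingCat.of k)) := by rw [← h]; infer_instance
  refine ⟨hpr, (Scheme.Modules.pullback ι).obj (Twist.twistProjSpace N k 1), ?_⟩
  have h2 := K465.RVA.isRelVeryAmplePn_of_closedImmersion (X ↘ Spec (CommRingCat.of k))
    ((Scheme.Modules.pullback ι).obj (Twist.twistProjSpace N k 1)) ι hι h ⟨Iso.refl _⟩
  exact Ega2.VeryAmpleAmple.isAmple_of_isRelVeryAmplePn _ _ h2

/-- The growth coefficient is a rational number. -/
def HasLim {s : ℕ} (P : Fin s → X.Modules) (F : X.Modules) : Prop :=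
  ∃ q : ℚ, Filter.Tendsto (fun m : ℕ => (FGA.intNum k X (s + 2) P (RefPow.refPow F m) : ℝ) / ((m : ℝ) ^ 2))
      Filter.atTop (nhds (q : ℝ))

/-- The cube identity, in the form of the row. -/
def Cube {s : ℕ} (M : Fin s → X.Modules) (ℒ₁ ℒ₂ ℒ₃ : X.Modules) : Prop :=
  ∀ (q₁ q₂ q₃ q₁₂ q₁₃ q₂₃ q₁₂₃ : ℝ)
    (_ : Filter.Tendsto (fun m : ℕ => (2 : ℝ) * (FGA.intNum k X (s + 2) M (RefPow.refPow ℒ₁ m) : ℝ) / ((m : ℝ) ^ 2)) Filter.atTop (nhds q₁))
    (_ : Filter.Tendsto (fun m : ℕ => (2 : ℝ) * (FGA.intNum k X (s + 2) M (RefPow.refPow ℒ₂ m) : ℝ) / ((m : ℝ) ^ 2)) Filter.atTop (nhds q₂))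
    (_ : Filter.Tendsto (fun m : ℕ => (2 : ℝ) * (FGA.intNum k X (s + 2) M (RefPow.refPow ℒ₃ m) : ℝ) / ((m : ℝ) ^ 2)) Filter.atTop (nhds q₃))
    (_ : Filter.Tendsto (fun m : ℕ => (2 : ℝ) * (FGA.intNum k X (s + 2) M (RefPow.refPow (RefPow.refTensor ℒ₁ ℒ₂) m) : ℝ) / ((m : ℝ) ^ 2)) Filter.atTop (nhds q₁₂))
    (_ : Filter.Tendsto (fun m : ℕ => (2 : ℝ) * (FGA.intNum k X (s + 2) M (RefPow.refPow (RefPow.refTensor ℒ₁ ℒ₃) m) : ℝ) / ((m : ℝ) ^ 2)) Filter.atTop (nhds q₁₃))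
    (_ : Filter.Tendsto (fun m : ℕ => (2 : ℝ) * (FGA.intNum k X (s + 2) M (RefPow.refPow (RefPow.refTensor ℒ₂ ℒ₃) m) : ℝ) / ((m : ℝ) ^ 2)) Filter.atTop (nhds q₂₃))
    (_ : Filter.Tendsto (fun m : ℕ => (2 : ℝ) * (FGA.intNum k X (s + 2) M (RefPow.refPow (RefPow.refTensor (RefPow.refTensor ℒ₁ ℒ₂) ℒ₃) m) : ℝ) / ((m : ℝ) ^ 2)) Filter.atTop (nhds q₁₂₃)),
    q₁₂₃ - q₁₂ - q₁₃ - q₂₃ + q₁ + q₂ + q₃ = 0

variable {k X} [IsProper (X ↘ Spec (CommRingCat.of k))] [IsIntegral X]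

/-- **Row 1**, reduced to very ample line bundles. -/
theorem hasLim_of_va (hnorm : Pi1.IsNormalScheme X) {s : ℕ} (hdim : topologicalKrullDim X = (s + 2 : ℕ))
    {H : X.Modules} (hH : CohB1.IsAmple H) {F : X.Modules} (hF : RefHull.IsRef1 F)
    (hva : ∀ P : Fin s → X.Modules, (∀ i, VAInv (P i)) → HasLim k X P F)
    (M : Fin s → X.Modules) (hM : ∀ i, PicF.IsInvertible (M i)) : HasLim k X M F := by
  obtain ⟨δ, hδ⟩ := exists_isSetup (X ↘ Spec (CommRingCat.of k))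
  exact exists_limit k hdim hH hF.1 (inv1_of_ref1 hδ hnorm hF) hva M hM

theorem two_mul_tendsto {f : ℕ → ℤ} {q : ℝ} (h : Tendsto (fun m : ℕ => (f m : ℝ) / ((m : ℝ) ^ 2)) atTop (𝓝 q)) :
    Tendsto (fun m : ℕ => (2 : ℝ) * (f m : ℝ) / ((m : ℝ) ^ 2)) atTop (𝓝 (2 * q)) :=
  (h.const_mul 2).congr fun m => by ring

/-- **Row 2**, reduced to very ample line bundles. -/
theorem cube_of_va (hnorm : Pi1.IsNormalScheme X) {s : ℕ} (hdim : topologicalKrullDim X = (s + 2 : ℕ))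
    {H : X.Modules} (hH : CohB1.IsAmple H)
    (hlim : ∀ P : Fin s → X.Modules, (∀ i, VAInv (P i)) → ∀ F : X.Modules, RefHull.IsRef1 F → HasLim k X P F)
    (hcube : ∀ P : Fin s → X.Modules, (∀ i, VAInv (P i)) → ∀ ℒ₁ ℒ₂ ℒ₃ : X.Modules, RefHull.IsRef1 ℒ₁ →
      RefHull.IsRef1 ℒ₂ → RefHull.IsRef1 ℒ₃ → Cube k X P ℒ₁ ℒ₂ ℒ₃)
    (M : Fin s → X.Modules) (hM : ∀ i, PicF.IsInvertible (M i)) (ℒ₁ ℒ₂ ℒ₃ : X.Modules) (h₁ : RefHull.IsRef1 ℒ₁)
    (h₂ : RefHull.IsRef1 ℒ₂) (h₃ : RefHull.IsRef1 ℒ₃) : Cube k X M ℒ₁ ℒ₂ ℒ₃ := by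
  have : IsLocallyNoetherian X := LocallyOfFiniteType.isLocallyNoetherian (X ↘ Spec (CommRingCat.of k))
  obtain ⟨δ, hδ⟩ := exists_isSetup (X ↘ Spec (CommRingCat.of k))
  have h₁₂ := K476.Ref1.isRef1_refTensor h₁ h₂
  have h₁₃ := K476.Ref1.isRef1_refTensor h₁ h₃
  have h₂₃ := K476.Ref1.isRef1_refTensor h₂ h₃
  have h₁₂₃ := K476.Ref1.isRef1_refTensor h₁₂ h₃
  let F : Fin 7 → X.Modules := ![ℒ₁, ℒ₂, ℒ₃, RefPow.refTensor ℒ₁ ℒ₂, RefPow.refTensor ℒ₁ ℒ₃, RefPow.refTensor ℒ₂ ℒ₃,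
    RefPow.refTensor (RefPow.refTensor ℒ₁ ℒ₂) ℒ₃]
  let ε : Fin 7 → ℝ := ![1, 1, 1, -1, -1, -1, 1]
  have hF : ∀ j, RefHull.IsRef1 (F j) := by
    intro j
    fin_cases j
    exacts [h₁, h₂, h₃, h₁₂, h₁₃, h₂₃, h₁₂₃]
  have hsum : ∀ q : Fin 7 → ℝ, ∑ j, ε j * q j = q 6 - q 3 - q 4 - q 5 + q 0 + q 1 + q 2 := by
    intro q
    rw [Fin.sum_univ_seven]
    change 1 * q 0 + 1 * q 1 + 1 * q 2 + (-1) * q 3 + (-1) * q 4 + (-1) * q 5 + 1 * q 6 = _
    ring
  obtain ⟨q, hq, h0⟩ := cube k hdim hH ε F (fun j => (hF j).1) (fun j => inv1_of_ref1 hδ hnorm (hF j))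
    (fun P hP => by
      choose q hq using fun j => hlim P hP (F j) (hF j)
      refine ⟨fun j => (q j : ℝ), hq, ?_⟩
      rw [hsum]
      have h := hcube P hP ℒ₁ ℒ₂ ℒ₃ h₁ h₂ h₃ _ _ _ _ _ _ _ (two_mul_tendsto (hq 0)) (two_mul_tendsto (hq 1))
        (two_mul_tendsto (hq 2)) (two_mul_tendsto (hq 3)) (two_mul_tendsto (hq 4)) (two_mul_tendsto (hq 5))
        (two_mul_tendsto (hq 6))
      linarith) M hM
  rw [hsum] at h0
  intro q₁ q₂ q₃ q₁₂ q₁₃ q₂₃ q₁₂₃ k₁ k₂ k₃ k₁₂ k₁₃ k₂₃ k₁₂₃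
  rw [tendsto_nhds_unique k₁ (two_mul_tendsto (hq 0)), tendsto_nhds_unique k₂ (two_mul_tendsto (hq 1)),
    tendsto_nhds_unique k₃ (two_mul_tendsto (hq 2)), tendsto_nhds_unique k₁₂ (two_mul_tendsto (hq 3)),
    tendsto_nhds_unique k₁₃ (two_mul_tendsto (hq 4)), tendsto_nhds_unique k₂₃ (two_mul_tendsto (hq 5)),
    tendsto_nhds_unique k₁₂₃ (two_mul_tendsto (hq 6))]
  linarith

end Rows

end K424.VaRed
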